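import Groth.Agent.L10.EtBCComp.VComp
import Groth.Agent.L10.KInjDerived
import Groth.Agent.L10.KInjTransfer
import Groth.Prelude.Def_EtBCD

/-! # Derived base change maps compose -/

universe u

open CategoryTheory CategoryTheory.Limits AlgebraicGeometry

attribute [local instance] HasDerivedCategory.standard

set_option backward.isDefEq.respectTransparency false
set_option backward.isDefEq.respectTransparency.types false
set_option backward.defeqAttrib.useBackward true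
set_option linter.style.haveILetI false
set_option synthInstance.maxHeartbeats 100000

noncomputable section

namespace Groth.L10.EtBCComp.DComp

open DerivedCategory

variable {X S X' S' : Scheme.{u}}

/-- Direct image on homotopy categories. -/
abbrev H {X S : Scheme.{u}} (f : X ⟶ S) := (EtCoh.push f).mapHomotopyCategory (ComplexShape.up ℤ)

/-- Inverse image on homotopy categories. -/
abbrev P {X S : Scheme.{u}} (f : X ⟶ S) := (EtCoh.pull f).mapHomotopyCategory (ComplexShape.up ℤ)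

/-- The unit of the derived direct image. -/
abbrev U {X S : Scheme.{u}} (f : X ⟶ S) [DCoh.HasRpushEt X f] :=
  (DCoh.pushEtKh X f).totalRightDerivedUnit Qh (HomotopyCategory.quasiIso (EtCoh.Ab X) (ComplexShape.up ℤ))

instance isRight {X S : Scheme.{u}} (f : X ⟶ S) [DCoh.HasRpushEt X f] :
    (DCoh.RpushEt X f).IsRightDerivedFunctor (U f) (HomotopyCategory.quasiIso (EtCoh.Ab X) (ComplexShape.up ℤ)) :=
  inferInstance

theorem pushToPushPull_app (f : X ⟶ S) (g : S' ⟶ S) (f' : X' ⟶ S') (g' : X' ⟶ X) (w : g' ≫ f = f' ≫ g) (M : EtCoh.Ab X) :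
    (EtBC.pushToPushPull f g f' g' w).app M =
      (EtCoh.push f).map ((EtCoh.pullPushAdj g').unit.app M) ≫ (sqIso f g f' g' w).hom.app ((EtCoh.pull g').obj M) := by
  simp [EtBC.pushToPushPull, sqIso]

theorem pushToPushPullH_app (f : X ⟶ S) (g : S' ⟶ S) (f' : X' ⟶ S') (g' : X' ⟶ X) (w : g' ≫ f = f' ≫ g)
    (C : CochainComplex (EtCoh.Ab X) ℤ) :
    (EtBC.pushToPushPullH f g f' g' w).app ((HomotopyCategory.quotient _ _).obj C) =
      (HomotopyCategory.quotient _ _).map ((NatTrans.mapHomologicalComplex (EtBC.pushToPushPull f g f' g' w) _).app C) := by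
  simp only [EtBC.pushToPushPullH, NatTrans.comp_app, Functor.whiskerLeft_app]
  refine Eq.trans ?_ (Category.comp_id _)
  refine congrArg₂ (· ≫ ·) rfl ?_
  simp [Functor.mapHomotopyCategoryCompIso, Functor.mapHomologicalComplexCompIso, Quotient.natIsoLift]
  rfl

theorem bcUnit_app (f : X ⟶ S) (g : S' ⟶ S) (f' : X' ⟶ S') (g' : X' ⟶ X) (w : g' ≫ f = f' ≫ g)
    [PreservesFiniteLimits (EtCoh.pull g')] [DCoh.HasRpushEt X f] [DCoh.HasRpushEt X' f'] [DCoh.HasRpushEt S' g]
    (A : HomotopyCategory (EtCoh.Ab X) (ComplexShape.up ℤ)) :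
    (EtBC.bcUnit f g f' g' w).app A = Qh.map ((EtBC.pushToPushPullH f g f' g' w).app A) ≫
      (U g).app ((H f').obj ((P g').obj A)) ≫ (DCoh.RpushEt S' g).map ((U f').app ((P g').obj A)) ≫
      (DCoh.RpushEt S' g).map ((DCoh.RpushEt X' f').map ((EtCoh.pull g').mapDerivedCategoryFactorsh.inv.app A)) := by
  simp [EtBC.bcUnit]

theorem U_fac (f : X ⟶ S) (g : S' ⟶ S) (f' : X' ⟶ S') (g' : X' ⟶ X) (w : g' ≫ f = f' ≫ g)
    [PreservesFiniteLimits (EtCoh.pull g')] [DCoh.HasRpushEt X f] [DCoh.HasRpushEt X' f'] [DCoh.HasRpushEt S' g]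
    (A : HomotopyCategory (EtCoh.Ab X) (ComplexShape.up ℤ)) :
    (U f).app A ≫ (EtBC.bcAdj f g f' g' w).app (Qh.obj A) = (EtBC.bcUnit f g f' g' w).app A :=
  (DCoh.RpushEt X f).rightDerived_fac_app (U f) (HomotopyCategory.quasiIso (EtCoh.Ab X) (ComplexShape.up ℤ)) _ _ A

theorem bcMap_natural (f : X ⟶ S) (g : S' ⟶ S) (f' : X' ⟶ S') (g' : X' ⟶ X) (w : g' ≫ f = f' ≫ g)
    [PreservesFiniteLimits (EtCoh.pull g)]
    [PreservesFiniteLimits (EtCoh.pull g')] [DCoh.HasRpushEt X f] [DCoh.HasRpushEt X' f'] [DCoh.HasRpushEt S' g]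
    (adj : EtBC.pullD g ⊣ DCoh.RpushEt S' g) {K L : DCoh.DEt X} (a : K ⟶ L) :
    (EtBC.pullD g).map ((DCoh.RpushEt X f).map a) ≫ EtBC.bcMap f g f' g' w adj L =
      EtBC.bcMap f g f' g' w adj K ≫ (DCoh.RpushEt X' f').map ((EtBC.pullD g').map a) := by
  rw [EtBC.bcMap, EtBC.bcMap, ← Adjunction.homEquiv_naturality_left_symm, ← Adjunction.homEquiv_naturality_right_symm]
  exact congrArg _ ((EtBC.bcAdj f g f' g' w).naturality a)

theorem isIso_bcMap_iff (f : X ⟶ S) (g : S' ⟶ S) (f' : X' ⟶ S') (g' : X' ⟶ X) (w : g' ≫ f = f' ≫ g)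
    [PreservesFiniteLimits (EtCoh.pull g)]
    [PreservesFiniteLimits (EtCoh.pull g')] [DCoh.HasRpushEt X f] [DCoh.HasRpushEt X' f'] [DCoh.HasRpushEt S' g]
    (adj : EtBC.pullD g ⊣ DCoh.RpushEt S' g) {K L : DCoh.DEt X} (a : K ≅ L) :
    IsIso (EtBC.bcMap f g f' g' w adj K) ↔ IsIso (EtBC.bcMap f g f' g' w adj L) :=
  (MorphismProperty.isomorphisms _).arrow_mk_iso_iff
    (Arrow.isoMk ((EtBC.pullD g).mapIso ((DCoh.RpushEt X f).mapIso a))
      ((DCoh.RpushEt X' f').mapIso ((EtBC.pullD g').mapIso a)) (bcMap_natural f g f' g' w adj a.hom))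

variable {S X Y T W Z : Scheme.{u}} (f : X ⟶ S) (g : T ⟶ S) (h : Y ⟶ X) (e : Y ⟶ T) (i : W ⟶ X) (j : Z ⟶ W) (k : Z ⟶ Y)

/-- The composition isomorphism on homotopy categories. -/
def pushCompH : H i ⋙ H f ≅ H (i ≫ f) :=
  Functor.mapHomotopyCategoryCompIso (EtCoh.pushComp f i) (ComplexShape.up ℤ)

variable [DCoh.HasRpushEt X f] [DCoh.HasRpushEt W i] [DCoh.HasRpushEt W (i ≫ f)]

/-- The map defining the comparison of derived composites. -/
def compUnit : DCoh.pushEtKh W (i ≫ f) ⟶ Qh ⋙ DCoh.RpushEt W i ⋙ DCoh.RpushEt X f where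
  app A := Qh.map ((pushCompH f i).inv.app A) ≫ (U f).app ((H i).obj A) ≫ (DCoh.RpushEt X f).map ((U i).app A)
  naturality A B a := by
    simp only [Category.assoc, Functor.comp_map]
    have h1 : Qh.map ((H (i ≫ f)).map a) ≫ Qh.map ((pushCompH f i).inv.app B) =
        Qh.map ((pushCompH f i).inv.app A) ≫ Qh.map ((H f).map ((H i).map a)) := by
      rw [← Functor.map_comp, ← Functor.map_comp]
      exact congrArg _ ((pushCompH f i).inv.naturality a)
    erw [reassoc_of% h1]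
    refine congrArg (Qh.map ((pushCompH f i).inv.app A) ≫ ·) ?_
    erw [(U f).naturality_assoc ((H i).map a)]
    refine congrArg ((U f).app ((H i).obj A) ≫ ·) ?_
    simp only [Functor.comp_map, ← Functor.map_comp]
    exact congrArg _ ((U i).naturality a)

/-- Comparison of the derived direct image of a composite. -/
def θ : DCoh.RpushEt W (i ≫ f) ⟶ DCoh.RpushEt W i ⋙ DCoh.RpushEt X f :=
  (DCoh.RpushEt W (i ≫ f)).rightDerivedDesc (U (i ≫ f))
    (HomotopyCategory.quasiIso (EtCoh.Ab W) (ComplexShape.up ℤ)) _ (compUnit f i)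

theorem θ_fac (A : HomotopyCategory (EtCoh.Ab W) (ComplexShape.up ℤ)) :
    (U (i ≫ f)).app A ≫ (θ f i).app (Qh.obj A) =
      Qh.map ((pushCompH f i).inv.app A) ≫ (U f).app ((H i).obj A) ≫ (DCoh.RpushEt X f).map ((U i).app A) :=
  (DCoh.RpushEt W (i ≫ f)).rightDerived_fac_app (U (i ≫ f)) _ _ (compUnit f i) A

theorem isIso_θ [PreservesFiniteLimits (EtCoh.pull i)] : IsIso (θ f i) := by
  haveI : ∀ A, IsIso ((θ f i).app A) := fun A => by
    let J := ((L10.KInjDerived.kInj (EtCoh.Ab W)).ι ⋙ Qh).objPreimage A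
    refine (NatTrans.isIso_app_iff_of_iso (θ f i) (((L10.KInjDerived.kInj (EtCoh.Ab W)).ι ⋙ Qh).objObjPreimageIso A)).1 ?_
    haveI : CochainComplex.IsKInjective J.obj.as := J.property
    haveI h1 := L10.KInjDerived.isIso_app_of_isKInjective (U (i ≫ f)) J.obj J.property
    haveI h2 := L10.KInjDerived.isIso_app_of_isKInjective (U i) J.obj J.property
    haveI h3 : IsIso ((U f).app ((H i).obj J.obj)) := L10.KInjDerived.isIso_app_of_isKInjective (U f) _
      (L10.KInjTransfer.isKInjective_map (EtCoh.pullPushAdj i) J.obj.as)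
    have hh : IsIso ((U (i ≫ f)).app J.obj ≫ (θ f i).app (Qh.obj J.obj)) := by rw [θ_fac]; infer_instance
    exact @IsIso.of_isIso_comp_left _ _ _ _ _ ((U (i ≫ f)).app J.obj) ((θ f i).app (Qh.obj J.obj)) h1 hh
  exact NatIso.isIso_of_isIso_app _

/-- Once the upper derived base change map is invertible, the outer one is invertible exactly when the pulled back lower one is. -/
theorem isIso_bcMap_vcomp_iff [PreservesFiniteLimits (EtCoh.pull f)] [PreservesFiniteLimits (EtCoh.pull i)]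
    [PreservesFiniteLimits (EtCoh.pull (i ≫ f))] [PreservesFiniteLimits (EtCoh.pull e)]
    [PreservesFiniteLimits (EtCoh.pull k)] [PreservesFiniteLimits (EtCoh.pull (k ≫ e))]
    [DCoh.HasRpushEt T g] [DCoh.HasRpushEt Y h] [DCoh.HasRpushEt Z j]
    (adj₁ : EtBC.pullD f ⊣ DCoh.RpushEt X f) (adj₂ : EtBC.pullD i ⊣ DCoh.RpushEt W i)
    (adj₃ : EtBC.pullD (i ≫ f) ⊣ DCoh.RpushEt W (i ≫ f))
    (w : e ≫ g = h ≫ f) (w' : k ≫ h = j ≫ i) (w'' : (k ≫ e) ≫ g = j ≫ (i ≫ f)) (K : DCoh.DEt T)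
    (h2 : IsIso (EtBC.bcMap h i j k w' adj₂ ((EtBC.pullD e).obj K))) :
    IsIso (EtBC.bcMap g (i ≫ f) j (k ≫ e) w'' adj₃ K) ↔ IsIso ((EtBC.pullD i).map (EtBC.bcMap g f h e w adj₁ K)) := by
  obtain ⟨C, hC, ⟨eK⟩⟩ : ∃ C : CochainComplex (EtCoh.Ab T) ℤ, C.IsKInjective ∧
      Nonempty (Qh.obj ((HomotopyCategory.quotient _ _).obj C) ≅ K) :=
    ⟨_, (((L10.KInjDerived.kInj (EtCoh.Ab T)).ι ⋙ Qh).objPreimage K).property,
      ⟨((L10.KInjDerived.kInj (EtCoh.Ab T)).ι ⋙ Qh).objObjPreimageIso K⟩⟩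
  rw [← isIso_bcMap_iff g (i ≫ f) j (k ≫ e) w'' adj₃ eK]
  have hnat : IsIso ((EtBC.pullD i).map (EtBC.bcMap g f h e w adj₁ K)) ↔
      IsIso ((EtBC.pullD i).map (EtBC.bcMap g f h e w adj₁ (Qh.obj ((HomotopyCategory.quotient _ _).obj C)))) :=
    ((MorphismProperty.isomorphisms _).arrow_mk_iso_iff ((EtBC.pullD i).mapArrow.mapIso
      (Arrow.isoMk (f := Arrow.mk (EtBC.bcMap g f h e w adj₁ (Qh.obj ((HomotopyCategory.quotient _ _).obj C))))
        (g := Arrow.mk (EtBC.bcMap g f h e w adj₁ K)) ((EtBC.pullD f).mapIso ((DCoh.RpushEt T g).mapIso eK))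
        ((DCoh.RpushEt Y h).mapIso ((EtBC.pullD e).mapIso eK)) (bcMap_natural g f h e w adj₁ eK.hom)))).symm
  rw [hnat]
  haveI h2' := (isIso_bcMap_iff h i j k w' adj₂ ((EtBC.pullD e).mapIso eK)).2 h2
  let A : HomotopyCategory (EtCoh.Ab T) (ComplexShape.up ℤ) := (HomotopyCategory.quotient _ _).obj C
  haveI := L10.KInjDerived.isIso_app_of_isKInjective (U g) A hC
  haveI := isIso_θ f i
  let adjE := ((EtCoh.pullPushAdj e).comp (EtCoh.pullPushAdj k)).ofNatIsoRight (EtCoh.pushComp e k)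
  let uE := (EtCoh.pullPushAdj (k ≫ e)).leftAdjointUniq adjE
  let uC : (P (k ≫ e)).obj A ⟶ (P k).obj ((P e).obj A) :=
    (HomotopyCategory.quotient _ _).map ((NatTrans.mapHomologicalComplex uE.hom _).app C ≫
      (Functor.mapHomologicalComplexCompIso (Iso.refl (EtCoh.pull e ⋙ EtCoh.pull k)) _).inv.app C)
  haveI : IsIso uC := by
    haveI : IsIso ((NatTrans.mapHomologicalComplex uE.hom (ComplexShape.up ℤ)).app C) :=
      inferInstanceAs (IsIso (((NatIso.mapHomologicalComplex uE _).app C).hom))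
    infer_instance
  let φ : (EtBC.pullD (k ≫ e)).obj (Qh.obj A) ⟶ (EtBC.pullD k).obj ((EtBC.pullD e).obj (Qh.obj A)) :=
    (EtCoh.pull (k ≫ e)).mapDerivedCategoryFactorsh.hom.app A ≫ Qh.map uC ≫
      (EtCoh.pull k).mapDerivedCategoryFactorsh.inv.app ((P e).obj A) ≫
      (EtBC.pullD k).map ((EtCoh.pull e).mapDerivedCategoryFactorsh.inv.app A)
  have hH : (EtBC.pushToPushPullH g f h e w).app A ≫ (H f).map ((EtBC.pushToPushPullH h i j k w').app ((P e).obj A)) =
      (EtBC.pushToPushPullH g (i ≫ f) j (k ≫ e) w'').app A ≫ (H (i ≫ f)).map ((H j).map uC) ≫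
        (pushCompH f i).inv.app ((H j).obj ((P k).obj ((P e).obj A))) := by
    show _ ≫ (H f).map ((EtBC.pushToPushPullH h i j k w').app ((HomotopyCategory.quotient _ _).obj
        (((EtCoh.pull e).mapHomologicalComplex _).obj C))) = _
    rw [pushToPushPullH_app, pushToPushPullH_app, pushToPushPullH_app]
    refine ((HomotopyCategory.quotient _ _).map_comp _ _).symm.trans ?_
    refine Eq.trans ?_ ((HomotopyCategory.quotient _ _).map_comp _ _)
    refine congrArg (HomotopyCategory.quotient _ _).map (HomologicalComplex.hom_ext _ _ fun n => ?_)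
    simp [pushToPushPull_app, Functor.mapHomotopyCategoryCompIso, pushCompH, Functor.mapHomologicalComplexCompIso,
      Quotient.natIsoLift]
    have hu : (EtCoh.pullPushAdj (k ≫ e)).unit.app (C.X n) ≫ (EtCoh.push (k ≫ e)).map (uE.hom.app (C.X n)) =
        (EtCoh.pullPushAdj e).unit.app (C.X n) ≫
          (EtCoh.push e).map ((EtCoh.pullPushAdj k).unit.app ((EtCoh.pull e).obj (C.X n))) ≫
          (EtCoh.pushComp e k).hom.app _ := by
      refine (Adjunction.unit_leftAdjointUniq_hom_app _ adjE (C.X n)).trans ?_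
      simp [adjE, Adjunction.ofNatIsoRight]
    have hσ₁ := (sqIso g f h e w).hom.naturality ((EtCoh.pullPushAdj k).unit.app ((EtCoh.pull e).obj (C.X n)))
    have hσ₃ := (sqIso g (i ≫ f) j (k ≫ e) w'').hom.naturality (uE.hom.app (C.X n))
    have hu' := congrArg (EtCoh.push g).map hu
    have hc := coherence f g h e i j k w w' w'' ((EtCoh.pull k).obj ((EtCoh.pull e).obj (C.X n)))
    simp only [sqIso, Iso.trans_hom, Iso.symm_hom, NatTrans.comp_app, Category.assoc, Functor.map_comp,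
      Functor.comp_map, Functor.comp_obj] at hu' hσ₁ hσ₃ hc
    rw [← reassoc_of% hσ₃, reassoc_of% hu', reassoc_of% hc, ← reassoc_of% hσ₁]
    erw [Iso.hom_inv_id_app, Category.comp_id]
  have main : (EtBC.bcAdj g f h e w).app (Qh.obj A) ≫
        (DCoh.RpushEt X f).map ((EtBC.bcAdj h i j k w').app ((EtBC.pullD e).obj (Qh.obj A))) =
      (EtBC.bcAdj g (i ≫ f) j (k ≫ e) w'').app (Qh.obj A) ≫
        (DCoh.RpushEt W (i ≫ f)).map ((DCoh.RpushEt Z j).map φ) ≫
        (θ f i).app ((DCoh.RpushEt Z j).obj ((EtBC.pullD k).obj ((EtBC.pullD e).obj (Qh.obj A)))) := by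
    rw [← cancel_epi ((U g).app A), reassoc_of% (U_fac g f h e w A), reassoc_of% (U_fac g (i ≫ f) j (k ≫ e) w'' A),
      bcUnit_app, bcUnit_app]
    simp only [Category.assoc, ← Functor.map_comp]
    have n1 := (EtBC.bcAdj h i j k w').naturality ((EtCoh.pull e).mapDerivedCategoryFactorsh.inv.app A)
    simp only [Functor.comp_map] at n1
    erw [n1]
    rw [← Category.assoc ((U h).app ((P e).obj A))]
    erw [U_fac h i j k w' ((P e).obj A)]
    rw [bcUnit_app]
    simp only [Functor.map_comp, Category.assoc]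
    erw [← (U f).naturality_assoc ((EtBC.pushToPushPullH h i j k w').app ((P e).obj A))]
    rw [show (DCoh.pushEtKh X f).map ((EtBC.pushToPushPullH h i j k w').app ((P e).obj A)) =
      Qh.map ((H f).map ((EtBC.pushToPushPullH h i j k w').app ((P e).obj A))) from rfl]
    erw [← Functor.map_comp_assoc Qh, hH]
    simp only [Functor.map_comp, Category.assoc]
    simp only [φ, Functor.map_comp, Category.assoc]
    rw [← Functor.map_comp_assoc (DCoh.RpushEt W (i ≫ f))
      ((DCoh.RpushEt Z j).map ((EtCoh.pull (k ≫ e)).mapDerivedCategoryFactorsh.inv.app A)),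
      ← Functor.map_comp (DCoh.RpushEt Z j), Iso.inv_hom_id_app]
    simp only [CategoryTheory.Functor.map_id, Category.id_comp, Functor.comp_obj]
    have n2 := (U (i ≫ f)).naturality ((H j).map uC)
    have n3 := (U j).naturality uC
    simp only [Functor.comp_map] at n2 n3
    rw [← Functor.map_comp_assoc (DCoh.RpushEt W (i ≫ f)) ((U j).app _), ← n3, Functor.map_comp, Category.assoc]
    erw [← reassoc_of% n2]
    refine congrArg (Qh.map _ ≫ ·) (congrArg (Qh.map ((H (i ≫ f)).map ((H j).map uC)) ≫ ·) ?_)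
    erw [(θ f i).naturality, (θ f i).naturality_assoc, (θ f i).naturality_assoc]
    erw [reassoc_of% (θ_fac f i _)]
    simp
  haveI : IsIso φ := by infer_instance
  let adj' := (adj₁.comp adj₂).ofNatIsoRight (asIso (θ f i)).symm
  let uF := adj₃.leftAdjointUniq adj'
  have hb : EtBC.bcMap g (i ≫ f) j (k ≫ e) w'' adj₃ (Qh.obj A) ≫ (DCoh.RpushEt Z j).map φ =
      uF.hom.app _ ≫ (EtBC.pullD i).map (EtBC.bcMap g f h e w adj₁ (Qh.obj A)) ≫
        EtBC.bcMap h i j k w' adj₂ ((EtBC.pullD e).obj (Qh.obj A)) := by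
    apply (adj₃.homEquiv _ _).injective
    rw [Adjunction.homEquiv_naturality_right, EtBC.bcMap, Equiv.apply_symm_apply, Adjunction.homEquiv_unit]
    rw [(DCoh.RpushEt W (i ≫ f)).map_comp (uF.hom.app _)]
    erw [← Category.assoc (adj₃.unit.app _)]
    rw [Adjunction.unit_leftAdjointUniq_hom_app]
    erw [← Adjunction.homEquiv_unit adj']
    rw [← cancel_mono ((θ f i).app _), Category.assoc, ← main]
    have hhe : ∀ {a : DCoh.DEt S} {b : DCoh.DEt W} (m : (EtBC.pullD f ⋙ EtBC.pullD i).obj a ⟶ b),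
        adj'.homEquiv a b m ≫ (θ f i).app b = (adj₁.comp adj₂).homEquiv a b m := by
      intro a b m
      have hn : (DCoh.RpushEt W (i ≫ f)).map m ≫ (θ f i).app b = (θ f i).app _ ≫ (DCoh.RpushEt X f).map ((DCoh.RpushEt W i).map m) :=
        (θ f i).naturality m
      rw [Adjunction.homEquiv_unit, Adjunction.homEquiv_unit, Category.assoc, hn]
      simp [adj', Adjunction.ofNatIsoRight]
    erw [hhe]
    rw [Adjunction.comp_homEquiv]
    simp only [Equiv.trans_apply, Functor.comp_obj]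
    rw [Adjunction.homEquiv_naturality_left, EtBC.bcMap, EtBC.bcMap, Equiv.apply_symm_apply, Adjunction.homEquiv_naturality_right,
      Equiv.apply_symm_apply]
  haveI h2'' : IsIso (EtBC.bcMap h i j k w' adj₂ ((EtBC.pullD e).obj (Qh.obj A))) := h2'
  let m₁ : (EtBC.pullD i).obj ((EtBC.pullD f).obj ((DCoh.RpushEt T g).obj (Qh.obj A))) ⟶
      (EtBC.pullD i).obj ((DCoh.RpushEt Y h).obj ((EtBC.pullD e).obj (Qh.obj A))) :=
    (EtBC.pullD i).map (EtBC.bcMap g f h e w adj₁ (Qh.obj A))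
  constructor
  · intro hc
    haveI : IsIso (EtBC.bcMap g (i ≫ f) j (k ≫ e) w'' adj₃ (Qh.obj A)) := hc
    have h12 : IsIso (uF.hom.app _ ≫ m₁ ≫ EtBC.bcMap h i j k w' adj₂ ((EtBC.pullD e).obj (Qh.obj A))) :=
      hb ▸ (inferInstance : IsIso (EtBC.bcMap g (i ≫ f) j (k ≫ e) w'' adj₃ (Qh.obj A) ≫ (DCoh.RpushEt Z j).map φ))
    haveI := h12
    haveI h3 : IsIso (m₁ ≫ EtBC.bcMap h i j k w' adj₂ ((EtBC.pullD e).obj (Qh.obj A))) :=
      IsIso.of_isIso_comp_left (uF.hom.app _) _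
    exact IsIso.of_isIso_comp_right m₁ (EtBC.bcMap h i j k w' adj₂ ((EtBC.pullD e).obj (Qh.obj A)))
  · intro hm
    haveI : IsIso m₁ := hm
    have hiso : IsIso (EtBC.bcMap g (i ≫ f) j (k ≫ e) w'' adj₃ (Qh.obj A) ≫ (DCoh.RpushEt Z j).map φ) :=
      hb ▸ (inferInstance : IsIso (uF.hom.app _ ≫ m₁ ≫ EtBC.bcMap h i j k w' adj₂ ((EtBC.pullD e).obj (Qh.obj A))))
    exact @IsIso.of_isIso_comp_right _ _ _ _ _ _ ((DCoh.RpushEt Z j).map φ) inferInstance hiso

/-- Vertically composed squares have composed derived base change maps. -/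
theorem isIso_bcMap_vcomp [PreservesFiniteLimits (EtCoh.pull f)] [PreservesFiniteLimits (EtCoh.pull i)]
    [PreservesFiniteLimits (EtCoh.pull (i ≫ f))] [PreservesFiniteLimits (EtCoh.pull e)]
    [PreservesFiniteLimits (EtCoh.pull k)] [PreservesFiniteLimits (EtCoh.pull (k ≫ e))]
    [DCoh.HasRpushEt T g] [DCoh.HasRpushEt Y h] [DCoh.HasRpushEt Z j]
    (adj₁ : EtBC.pullD f ⊣ DCoh.RpushEt X f) (adj₂ : EtBC.pullD i ⊣ DCoh.RpushEt W i)
    (adj₃ : EtBC.pullD (i ≫ f) ⊣ DCoh.RpushEt W (i ≫ f))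
    (w : e ≫ g = h ≫ f) (w' : k ≫ h = j ≫ i) (w'' : (k ≫ e) ≫ g = j ≫ (i ≫ f)) (K : DCoh.DEt T)
    (h1 : IsIso (EtBC.bcMap g f h e w adj₁ K)) (h2 : IsIso (EtBC.bcMap h i j k w' adj₂ ((EtBC.pullD e).obj K))) :
    IsIso (EtBC.bcMap g (i ≫ f) j (k ≫ e) w'' adj₃ K) := by
  rw [isIso_bcMap_vcomp_iff f g h e i j k adj₁ adj₂ adj₃ w w' w'' K h2]
  infer_instance

end Groth.L10.EtBCComp.DComp
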