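import Groth.Prelude.Def_RDer
import Mathlib.CategoryTheory.Abelian.RightDerived
import Mathlib.Algebra.Homology.Homotopy

/-! # Composition of derived comparison maps attached to commutative squares of functors -/

universe v v₁ v₂ v₃ u u₁ u₂ u₃

open CategoryTheory CategoryTheory.Limits HomologicalComplex

set_option backward.isDefEq.respectTransparency false
set_option backward.defeqAttrib.useBackward true
set_option backward.isDefEq.respectTransparency.types false
set_option linter.style.haveILetI false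

noncomputable section

namespace Groth.L10.EtBCComp

section Homotopy

variable {C : Type u} [Category.{v} C] [Abelian C] {Y : C} (I : InjectiveResolution Y)
  (L : CochainComplex C ℕ) [∀ n, Injective (L.X n)] (f : I.cocomplex ⟶ L) (hf : I.ι.f 0 ≫ f.f 0 = 0)

include hf in
theorem exists_zero : ∃ g : I.cocomplex.X 1 ⟶ L.X 0, I.cocomplex.d 0 1 ≫ g = f.f 0 :=
  ⟨_, I.exact₀.comp_descToInjective (f.f 0) hf⟩

include hf in
theorem exists_one : ∃ g : I.cocomplex.X 2 ⟶ L.X 1,
    I.cocomplex.d 1 2 ≫ g = f.f 1 - (exists_zero I L f hf).choose ≫ L.d 0 1 :=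
  ⟨_, (I.exact_succ 0).comp_descToInjective _ (by
    dsimp
    rw [Preadditive.comp_sub, reassoc_of% (exists_zero I L f hf).choose_spec, HomologicalComplex.Hom.comm, sub_self])⟩

/-- A cochain map from a resolution to injectives which kills the augmentation is null homotopic. -/
def homotopyZero : Homotopy f 0 :=
  Homotopy.mkCoinductive _ (exists_zero I L f hf).choose (exists_zero I L f hf).choose_spec.symm
    (exists_one I L f hf).choose (by rw [(exists_one I L f hf).choose_spec]; abel) (fun n ⟨g, g', w⟩ =>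
    ⟨(I.exact_succ (n + 1)).descToInjective (f.f (n + 2) - g' ≫ L.d _ _) (by
        dsimp
        rw [Preadditive.comp_sub, ← HomologicalComplex.Hom.comm, w, Preadditive.add_comp,
          Category.assoc, Category.assoc, HomologicalComplex.d_comp_d, comp_zero]
        abel),
      by rw [(I.exact_succ (n + 1)).comp_descToInjective]; abel⟩)

end Homotopy

theorem homologyMap_eq {C : Type u} [Category.{v} C] [Abelian C] {D : Type u₁} [Category.{v₁} D] [Abelian D]
    (F : C ⥤ D) [F.Additive] {Y : C} (I : InjectiveResolution Y) (L : CochainComplex C ℕ) [∀ n, Injective (L.X n)]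
    (g h : I.cocomplex ⟶ L) (hgh : I.ι.f 0 ≫ g.f 0 = I.ι.f 0 ≫ h.f 0) (q : ℕ) :
    (homologyFunctor D _ q).map ((F.mapHomologicalComplex _).map g) =
      (homologyFunctor D _ q).map ((F.mapHomologicalComplex _).map h) :=
  (F.mapHomotopy ((Homotopy.equivSubZero).symm (homotopyZero I L (g - h) (by
    rw [HomologicalComplex.sub_f_apply, Preadditive.comp_sub, hgh, sub_self])))).homologyMap_eq q

section Comparison

variable {B : Type u₂} [Category.{v₂} B] [Abelian B] {C : Type u₃} [Category.{v₃} C] [Abelian C]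
  (Ψ : B ⥤ C) [Ψ.Additive] [PreservesFiniteLimits Ψ] {K L : CochainComplex B ℕ} (q : ℕ)

theorem mono_map_iCycles : Mono (Ψ.map (K.iCycles q)) := inferInstance

theorem cyclesComparison_naturality (φ : K ⟶ L) :
    cyclesMap ((Ψ.mapHomologicalComplex _).map φ) q ≫ RDer.cyclesComparison Ψ L q =
      RDer.cyclesComparison Ψ K q ≫ Ψ.map (cyclesMap φ q) := by
  rw [← cancel_mono (Ψ.map (L.iCycles q)), Category.assoc, RDer.cyclesComparison_i, cyclesMap_i, Category.assoc,
    ← Ψ.map_comp, cyclesMap_i, Ψ.map_comp, RDer.cyclesComparison_i_assoc]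
  rfl

@[reassoc]
theorem homologyComparison_naturality (φ : K ⟶ L) :
    (homologyFunctor C _ q).map ((Ψ.mapHomologicalComplex _).map φ) ≫ RDer.homologyComparison Ψ L q =
      RDer.homologyComparison Ψ K q ≫ Ψ.map ((homologyFunctor B _ q).map φ) := by
  rw [← cancel_epi (((Ψ.mapHomologicalComplex _).obj K).homologyπ q)]
  simp only [homologyFunctor_map, homologyπ_naturality_assoc, RDer.homologyπ_homologyComparison,
    RDer.homologyπ_homologyComparison_assoc]
  rw [← Category.assoc, cyclesComparison_naturality, Category.assoc, ← Ψ.map_comp, ← Ψ.map_comp, homologyπ_naturality]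

variable {A : Type u} [Category.{v} A] [Abelian A] (Φ : A ⥤ B) [Φ.Additive] [PreservesFiniteLimits Φ]
  (K : CochainComplex A ℕ)

theorem homologyComparison_comp [PreservesFiniteLimits (Φ ⋙ Ψ)] :
    RDer.homologyComparison (Φ ⋙ Ψ) K q =
      RDer.homologyComparison Ψ ((Φ.mapHomologicalComplex _).obj K) q ≫ Ψ.map (RDer.homologyComparison Φ K q) := by
  rw [← cancel_epi (((((Φ ⋙ Ψ)).mapHomologicalComplex _).obj K).homologyπ q), RDer.homologyπ_homologyComparison]
  refine Eq.trans ?_ (RDer.homologyπ_homologyComparison_assoc Ψ ((Φ.mapHomologicalComplex _).obj K) q _).symm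
  rw [← Ψ.map_comp, RDer.homologyπ_homologyComparison, Ψ.map_comp, ← Category.assoc]
  refine congrArg (fun z => z ≫ Ψ.map (Φ.map (K.homologyπ q))) ?_
  rw [← cancel_mono (Ψ.map (Φ.map (K.iCycles q)))]
  refine (RDer.cyclesComparison_i (Φ ⋙ Ψ) K q).trans ?_
  rw [Category.assoc, ← Ψ.map_comp, RDer.cyclesComparison_i, RDer.cyclesComparison_i]
  rfl

theorem homologyComparison_iso {Ψ' : B ⥤ C} [Ψ'.Additive] [PreservesFiniteLimits Ψ'] (τ : Ψ ⟶ Ψ') (K : CochainComplex B ℕ) :
    (homologyFunctor C _ q).map ((NatTrans.mapHomologicalComplex τ _).app K) ≫ RDer.homologyComparison Ψ' K q =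
      RDer.homologyComparison Ψ K q ≫ τ.app (K.homology q) := by
  rw [← cancel_epi (((Ψ.mapHomologicalComplex _).obj K).homologyπ q)]
  simp only [homologyFunctor_map, homologyπ_naturality_assoc, RDer.homologyπ_homologyComparison,
    RDer.homologyπ_homologyComparison_assoc]
  rw [τ.naturality, ← Category.assoc, ← Category.assoc]
  refine congrArg (fun z => z ≫ Ψ'.map (K.homologyπ q)) ?_
  rw [← cancel_mono (Ψ'.map (K.iCycles q)), Category.assoc, RDer.cyclesComparison_i, cyclesMap_i, Category.assoc,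
    ← τ.naturality, RDer.cyclesComparison_i_assoc]
  rfl

end Comparison

section Square

variable {A : Type u} [Category.{v} A] [Abelian A] [HasInjectiveResolutions A]
  {A' : Type u₁} [Category.{v₁} A'] [Abelian A'] [HasInjectiveResolutions A']
  {B : Type u₂} [Category.{v₂} B] [Abelian B] {B' : Type u₃} [Category.{v₃} B'] [Abelian B']
  (E : A' ⥤ A) [E.Additive] [E.PreservesInjectiveObjects] (Φ : A ⥤ B) [Φ.Additive]
  (Φ' : A' ⥤ B') [Φ'.Additive] (Ψ : B' ⥤ B) [Ψ.Additive] [PreservesFiniteLimits Ψ]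
  (σ : E ⋙ Φ ≅ Φ' ⋙ Ψ) (q : ℕ)

/-- The comparison map attached to a commutative square of functors. -/
def sqMap {X : A} {X' : A'} (a : X ⟶ E.obj X') : (Φ.rightDerived q).obj X ⟶ Ψ.obj ((Φ'.rightDerived q).obj X') :=
  (Φ.rightDerived q).map a ≫ RDer.edgeIn E Φ q X' ≫ (RDer.rightDerivedIso σ q).hom.app X' ≫ RDer.edgeOut Φ' Ψ q X'

/-- A lift to resolutions. -/
def lift {X : A} {X' : A'} (a : X ⟶ E.obj X') :
    (injectiveResolution X).cocomplex ⟶ (E.mapHomologicalComplex _).obj (injectiveResolution X').cocomplex :=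
  InjectiveResolution.desc a (injectiveResolution (E.obj X')) (injectiveResolution X) ≫
    RDer.descToInjectives (𝟙 (E.obj X')) (injectiveResolution (E.obj X')).cocomplex (injectiveResolution (E.obj X')).ι
      ((E.mapHomologicalComplex _).obj (injectiveResolution X').cocomplex)
      (RDer.mapAug E (injectiveResolution X').ι)

theorem ι_lift {X : A} {X' : A'} (a : X ⟶ E.obj X') :
    (injectiveResolution X).ι.f 0 ≫ (lift E a).f 0 = a ≫ E.map ((injectiveResolution X').ι.f 0) := by
  rw [lift, HomologicalComplex.comp_f]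
  erw [InjectiveResolution.desc_commutes_zero_assoc]
  refine (Category.assoc _ _ _).trans (congrArg (a ≫ ·) ((RDer.ι_descToInjectives_f_zero (𝟙 (E.obj X')) (injectiveResolution (E.obj X')).cocomplex
    (injectiveResolution (E.obj X')).ι ((E.mapHomologicalComplex _).obj (injectiveResolution X').cocomplex)
    (RDer.mapAug E (injectiveResolution X').ι)).trans ?_))
  erw [Category.id_comp]
  simp [HomologicalComplex.singleMapHomologicalComplex_inv_app_self]

/-- The comparison map is computed by any lift to resolutions. -/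
theorem sqMap_eq {X : A} {X' : A'} (a : X ⟶ E.obj X')
    (χ : (injectiveResolution X).cocomplex ⟶ (E.mapHomologicalComplex _).obj (injectiveResolution X').cocomplex)
    (hχ : (injectiveResolution X).ι.f 0 ≫ χ.f 0 = a ≫ E.map ((injectiveResolution X').ι.f 0)) :
    sqMap E Φ Φ' Ψ σ q a = ((injectiveResolution X).isoRightDerivedObj Φ q).hom ≫
      (homologyFunctor B _ q).map ((Φ.mapHomologicalComplex _).map χ) ≫
      (homologyFunctor B _ q).map ((NatTrans.mapHomologicalComplex σ.hom _).app (injectiveResolution X').cocomplex) ≫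
      RDer.homologyComparison Ψ ((Φ'.mapHomologicalComplex _).obj (injectiveResolution X').cocomplex) q ≫
      Ψ.map (((injectiveResolution X').isoRightDerivedObj Φ' q).inv) := by
  let I := injectiveResolution X
  let I₁ := injectiveResolution (E.obj X')
  let θ := InjectiveResolution.desc a I₁ I
  let D := RDer.descToInjectives (𝟙 (E.obj X')) I₁.cocomplex I₁.ι
        ((E.mapHomologicalComplex _).obj (injectiveResolution X').cocomplex)
        (RDer.mapAug E (injectiveResolution X').ι)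
  have h1 : (homologyFunctor B _ q).map ((Φ.mapHomologicalComplex _).map (θ ≫ D)) =
      (homologyFunctor B _ q).map ((Φ.mapHomologicalComplex _).map χ) := by
    refine homologyMap_eq Φ I _ _ _ ?_ q
    exact (ι_lift E a).trans hχ.symm
  rw [← h1, Functor.map_comp, Functor.map_comp]
  unfold sqMap RDer.edgeIn RDer.edgeOut RDer.rightDerivedIso
  dsimp only
  rw [InjectiveResolution.rightDerived_app_eq σ.hom (injectiveResolution X') q]
  simp only [Category.assoc, Iso.inv_hom_id_assoc]
  rw [InjectiveResolution.isoRightDerivedObj_hom_naturality_assoc a I I₁ θ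
    (InjectiveResolution.desc_commutes_zero a I₁ I) Φ q]

/-- The comparison map is natural in the second object. -/
theorem sqMap_comp {X : A} {X' X'' : A'} (a : X ⟶ E.obj X') (φ : X' ⟶ X'') :
    sqMap E Φ Φ' Ψ σ q (a ≫ E.map φ) = sqMap E Φ Φ' Ψ σ q a ≫ Ψ.map ((Φ'.rightDerived q).map φ) := by
  let I := injectiveResolution X
  let χ := lift E a
  have hχ : I.ι.f 0 ≫ χ.f 0 = a ≫ E.map ((injectiveResolution X').ι.f 0) := ι_lift E a
  let ψ := InjectiveResolution.desc φ (injectiveResolution X'') (injectiveResolution X')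
  have hψ : I.ι.f 0 ≫ (χ ≫ (E.mapHomologicalComplex _).map ψ).f 0 = (a ≫ E.map φ) ≫ E.map ((injectiveResolution X'').ι.f 0) := by
    rw [HomologicalComplex.comp_f, reassoc_of% hχ, Functor.mapHomologicalComplex_map_f, Category.assoc, ← E.map_comp,
      ← E.map_comp]
    exact congrArg (fun z => a ≫ E.map z) (InjectiveResolution.desc_commutes_zero φ _ _)
  rw [sqMap_eq E Φ Φ' Ψ σ q a χ hχ, sqMap_eq E Φ Φ' Ψ σ q _ _ hψ]
  simp only [Category.assoc, Functor.map_comp]
  refine congrArg (((injectiveResolution X).isoRightDerivedObj Φ q).hom ≫ ·) (congrArg (_ ≫ ·) ?_)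
  have hσ := congrArg (homologyFunctor B (ComplexShape.up ℕ) q).map
    ((NatTrans.mapHomologicalComplex σ.hom (ComplexShape.up ℕ)).naturality ψ)
  rw [Functor.map_comp, Functor.map_comp] at hσ
  refine (reassoc_of% hσ) _ |>.trans (congrArg (_ ≫ ·) ?_)
  refine ((reassoc_of% (homologyComparison_naturality Ψ q ((Φ'.mapHomologicalComplex _).map ψ))) _).trans
    (congrArg (_ ≫ ·) ?_)
  rw [← Ψ.map_comp, ← Ψ.map_comp]
  exact congrArg Ψ.map (InjectiveResolution.isoRightDerivedObj_inv_naturality φ (injectiveResolution X')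
    (injectiveResolution X'') ψ (InjectiveResolution.desc_commutes_zero φ _ _) Φ' q).symm

variable {A'' : Type u₁} [Category.{v₁} A''] [Abelian A''] [HasInjectiveResolutions A'']
  {B'' : Type u₃} [Category.{v₃} B''] [Abelian B'']
  (E' : A'' ⥤ A') [E'.Additive] [E'.PreservesInjectiveObjects] (Φ'' : A'' ⥤ B'') [Φ''.Additive]
  (Ψ' : B'' ⥤ B') [Ψ'.Additive] [PreservesFiniteLimits Ψ'] (σ' : E' ⋙ Φ' ≅ Φ'' ⋙ Ψ')
  (E₃ : A'' ⥤ A) [E₃.Additive] [E₃.PreservesInjectiveObjects]
  (Ψ₃ : B'' ⥤ B) [Ψ₃.Additive] [PreservesFiniteLimits Ψ₃] (σ₃ : E₃ ⋙ Φ ≅ Φ'' ⋙ Ψ₃)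
  (ε : E' ⋙ E ≅ E₃) (τ : Ψ' ⋙ Ψ ≅ Ψ₃)

/-- The comparison maps compose. -/
theorem sqMap_sqMap (hσ : ∀ M : A'', Φ.map (ε.hom.app M) ≫ σ₃.hom.app M =
      σ.hom.app (E'.obj M) ≫ Ψ.map (σ'.hom.app M) ≫ τ.hom.app (Φ''.obj M))
    {X : A} {X' : A'} {X'' : A''} (a : X ⟶ E.obj X') (a' : X' ⟶ E'.obj X'') :
    sqMap E Φ Φ' Ψ σ q a ≫ Ψ.map (sqMap E' Φ' Φ'' Ψ' σ' q a') ≫ τ.hom.app ((Φ''.rightDerived q).obj X'') =
      sqMap E₃ Φ Φ'' Ψ₃ σ₃ q (a ≫ E.map a' ≫ ε.hom.app X'') := by
  haveI : PreservesFiniteLimits (Ψ' ⋙ Ψ) := comp_preservesFiniteLimits _ _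
  let I := injectiveResolution X
  let I' := injectiveResolution X'
  let I'' := injectiveResolution X''
  let χ := lift E a
  have hχ : I.ι.f 0 ≫ χ.f 0 = a ≫ E.map (I'.ι.f 0) := ι_lift E a
  let χ' := lift E' a'
  have hχ' : I'.ι.f 0 ≫ χ'.f 0 = a' ≫ E'.map (I''.ι.f 0) := ι_lift E' a'
  let χ₃ : I.cocomplex ⟶ (E₃.mapHomologicalComplex _).obj I''.cocomplex :=
    χ ≫ (E.mapHomologicalComplex _).map χ' ≫ (NatTrans.mapHomologicalComplex ε.hom _).app I''.cocomplex
  have hχ₃ : I.ι.f 0 ≫ χ₃.f 0 = (a ≫ E.map a' ≫ ε.hom.app X'') ≫ E₃.map (I''.ι.f 0) := by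
    show I.ι.f 0 ≫ χ.f 0 ≫ E.map (χ'.f 0) ≫ ε.hom.app _ = _
    rw [reassoc_of% hχ, ← E.map_comp_assoc, hχ', E.map_comp, Category.assoc, Category.assoc, Category.assoc]
    exact congrArg (fun z => a ≫ E.map a' ≫ z) (ε.hom.naturality (I''.ι.f 0))
  rw [sqMap_eq E Φ Φ' Ψ σ q a χ hχ, sqMap_eq E' Φ' Φ'' Ψ' σ' q a' χ' hχ', sqMap_eq E₃ Φ Φ'' Ψ₃ σ₃ q _ χ₃ hχ₃]
  simp only [Functor.map_comp, Category.assoc]
  rw [← Ψ.map_comp_assoc ((injectiveResolution X').isoRightDerivedObj Φ' q).inv, Iso.inv_hom_id, Ψ.map_id, Category.id_comp]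
  rw [← homologyComparison_naturality_assoc, ← homologyComparison_naturality_assoc]
  rw [show Ψ.map (Ψ'.map (I''.isoRightDerivedObj Φ'' q).inv) = (Ψ' ⋙ Ψ).map (I''.isoRightDerivedObj Φ'' q).inv from rfl,
    τ.hom.naturality]
  erw [← reassoc_of% (homologyComparison_comp Ψ q Ψ' ((Φ''.mapHomologicalComplex _).obj I''.cocomplex))]
  erw [← reassoc_of% (homologyComparison_iso (Ψ := Ψ' ⋙ Ψ) (Ψ' := Ψ₃) q τ.hom ((Φ''.mapHomologicalComplex _).obj I''.cocomplex))]
  simp only [← Functor.map_comp_assoc]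
  refine congrArg ((I.isoRightDerivedObj Φ q).hom ≫ ·) (congrArg (fun z => z ≫ _) ?_)
  refine congrArg (homologyFunctor B (ComplexShape.up ℕ) q).map ?_
  refine HomologicalComplex.hom_ext _ _ fun n => ?_
  simp only [χ₃, HomologicalComplex.comp_f, Functor.mapHomologicalComplex_map_f, NatTrans.mapHomologicalComplex_app_f,
    Functor.comp_map, Functor.map_comp, Category.assoc]
  erw [hσ (I''.cocomplex.X n)]
  refine congrArg (Φ.map (χ.f n) ≫ ·) ?_
  erw [← reassoc_of% (σ.hom.naturality (χ'.f n))]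
  rfl

end Square

end Groth.L10.EtBCComp
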