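import Groth.Agent.L10.EtBCComp.RDerSquare
import Groth.Agent.L27.LimCoh.Retract
import Groth.Agent.L27.LimCoh.StageSys
import Groth.Prelude.Def_EtBC2

/-! # Base change maps in each degree compose -/

universe u

open CategoryTheory CategoryTheory.Limits AlgebraicGeometry

set_option backward.isDefEq.respectTransparency false
set_option backward.isDefEq.respectTransparency.types false
set_option backward.defeqAttrib.useBackward true
set_option linter.style.haveILetI false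

noncomputable section

namespace Groth.L10.EtBCComp

open Groth.L27.LimCoh

variable {X S X' S' : Scheme.{u}}

/-- The isomorphism attached to a commutative square. -/
abbrev sqIso (f : X ⟶ S) (g : S' ⟶ S) (f' : X' ⟶ S') (g' : X' ⟶ X) (w : g' ≫ f = f' ≫ g) :
    EtCoh.push g' ⋙ EtCoh.push f ≅ EtCoh.push f' ⋙ EtCoh.push g :=
  EtCoh.pushComp f g' ≪≫ EtCoh.pushCongr w ≪≫ (EtCoh.pushComp g f').symm

theorem sqIso_hom_app (f : X ⟶ S) (g : S' ⟶ S) (f' : X' ⟶ S') (g' : X' ⟶ X) (w : g' ≫ f = f' ≫ g) (M : EtCoh.Ab X') :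
    (sqIso f g f' g' w).hom.app M = pushJoin g' f rfl M ≫ pushSplit f' g w.symm M := by
  simp only [sqIso, Iso.trans_hom, Iso.symm_hom, NatTrans.comp_app, pushComp_hom_app]
  exact congrArg (pushJoin g' f rfl M ≫ ·) (pushCongr_pushComp_inv f' g w.symm M)

theorem bcQAdj_eq (f : X ⟶ S) (g : S' ⟶ S) (f' : X' ⟶ S') (g' : X' ⟶ X) (w : g' ≫ f = f' ≫ g)
    [PreservesFiniteLimits (EtCoh.pull g')] (q : ℕ) (F : EtCoh.Ab X) :
    EtBC.bcQAdj f g f' g' w q F = sqMap (EtCoh.push g') (EtCoh.push f) (EtCoh.push f') (EtCoh.push g)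
      (sqIso f g f' g' w) q ((EtCoh.pullPushAdj g').unit.app F) := rfl

variable {S X Y T W Z : Scheme.{u}} (f : X ⟶ S) (g : T ⟶ S) (h : Y ⟶ X) (e : Y ⟶ T) (i : W ⟶ X) (j : Z ⟶ W) (k : Z ⟶ Y)

set_option maxHeartbeats 1000000 in
theorem coherence (w : e ≫ g = h ≫ f) (w' : k ≫ h = j ≫ i) (w'' : (k ≫ e) ≫ g = j ≫ (i ≫ f)) (M : EtCoh.Ab Z) :
    (EtCoh.push g).map ((EtCoh.pushComp e k).hom.app M) ≫ (sqIso g (i ≫ f) j (k ≫ e) w'').hom.app M =
      (sqIso g f h e w).hom.app ((EtCoh.push k).obj M) ≫ (EtCoh.push f).map ((sqIso h i j k w').hom.app M) ≫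
        (EtCoh.pushComp f i).hom.app ((EtCoh.push j).obj M) := by
  rw [sqIso_hom_app, sqIso_hom_app, sqIso_hom_app, pushComp_hom_app, pushComp_hom_app]
  have key : (EtCoh.push g).map (pushJoin k e rfl M) ≫ pushJoin (k ≫ e) g rfl M =
      (pushJoin e g rfl ((EtCoh.push k).obj M) ≫ pushSplit h f w.symm ((EtCoh.push k).obj M) ≫
        (EtCoh.push f).map (pushJoin k h rfl M) ≫ (EtCoh.push f).map (pushSplit j i w'.symm M) ≫
        pushJoin i f rfl ((EtCoh.push j).obj M)) ≫ pushJoin j (i ≫ f) w''.symm M := by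
    simp only [Category.assoc]
    rw [← pushJoin_assoc j i f w'.symm rfl (show (k ≫ h) ≫ f = (k ≫ e) ≫ g by rw [Category.assoc, Category.assoc, w])
      w''.symm M]
    rw [← Functor.map_comp_assoc ((EtCoh.push f)) (pushSplit j i w'.symm M), pushSplit_pushJoin, CategoryTheory.Functor.map_id, Category.id_comp]
    rw [pushJoin_assoc k h f rfl w.symm (show (k ≫ h) ≫ f = (k ≫ e) ≫ g by rw [Category.assoc, Category.assoc, w])
      (Category.assoc _ _ _).symm M]
    rw [← Category.assoc (pushSplit h f w.symm _), pushSplit_pushJoin, Category.id_comp]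
    exact pushJoin_assoc k e g rfl rfl rfl (Category.assoc _ _ _).symm M
  rw [← Category.assoc, key]
  simp only [Category.assoc, Functor.map_comp]
  rw [pushJoin_pushSplit j (i ≫ f) w''.symm M, Category.comp_id]

variable [PreservesFiniteLimits (EtCoh.pull e)] [PreservesFiniteLimits (EtCoh.pull k)]
  [PreservesFiniteLimits (EtCoh.pull (k ≫ e))]

set_option maxHeartbeats 1000000 in
/-- Once the upper base change map is invertible, the outer one is invertible exactly when the pulled back lower one is. -/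
theorem isIso_bcQ_vcomp_iff (w : e ≫ g = h ≫ f) (w' : k ≫ h = j ≫ i) (w'' : (k ≫ e) ≫ g = j ≫ (i ≫ f))
    (F : EtCoh.Ab T) (q : ℕ) (h2 : IsIso (EtBC.bcQ h i j k w' q ((EtCoh.pull e).obj F))) :
    IsIso (EtBC.bcQ g (i ≫ f) j (k ≫ e) w'' q F) ↔ IsIso ((EtCoh.pull i).map (EtBC.bcQ g f h e w q F)) := by
  let adjE := ((EtCoh.pullPushAdj e).comp (EtCoh.pullPushAdj k)).ofNatIsoRight (EtCoh.pushComp e k)
  let adjF := ((EtCoh.pullPushAdj f).comp (EtCoh.pullPushAdj i)).ofNatIsoRight (EtCoh.pushComp f i)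
  let uE := (EtCoh.pullPushAdj (k ≫ e)).leftAdjointUniq adjE
  let uF := (EtCoh.pullPushAdj (i ≫ f)).leftAdjointUniq adjF
  have hunit : (EtCoh.pullPushAdj (k ≫ e)).unit.app F ≫ (EtCoh.push (k ≫ e)).map (uE.hom.app F) =
      (EtCoh.pullPushAdj e).unit.app F ≫ (EtCoh.push e).map ((EtCoh.pullPushAdj k).unit.app ((EtCoh.pull e).obj F)) ≫
        (EtCoh.pushComp e k).hom.app _ := by
    refine (Adjunction.unit_leftAdjointUniq_hom_app _ adjE F).trans ?_
    simp [adjE, Adjunction.ofNatIsoRight]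
  have key : EtBC.bcQAdj g (i ≫ f) j (k ≫ e) w'' q F ≫
        (EtCoh.push (i ≫ f)).map ((EtCoh.Rpush j q).map (uE.hom.app F)) =
      EtBC.bcQAdj g f h e w q F ≫ (EtCoh.push f).map (EtBC.bcQAdj h i j k w' q ((EtCoh.pull e).obj F)) ≫
        (EtCoh.pushComp f i).hom.app _ := by
    rw [bcQAdj_eq, bcQAdj_eq, bcQAdj_eq]
    refine (sqMap_comp (EtCoh.push (k ≫ e)) (EtCoh.push g) (EtCoh.push j) (EtCoh.push (i ≫ f)) _ q _ _).symm.trans ?_
    rw [hunit]
    exact (sqMap_sqMap (EtCoh.push e) (EtCoh.push g) (EtCoh.push h) (EtCoh.push f) (sqIso g f h e w) q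
      (EtCoh.push k) (EtCoh.push j) (EtCoh.push i) (sqIso h i j k w') (EtCoh.push (k ≫ e)) (EtCoh.push (i ≫ f))
      (sqIso g (i ≫ f) j (k ≫ e) w'') (EtCoh.pushComp e k) (EtCoh.pushComp f i)
      (coherence f g h e i j k w w' w'') _ _).symm
  have hb : EtBC.bcQ g (i ≫ f) j (k ≫ e) w'' q F ≫ (EtCoh.Rpush j q).map (uE.hom.app F) =
      uF.hom.app _ ≫ (EtCoh.pull i).map (EtBC.bcQ g f h e w q F) ≫ EtBC.bcQ h i j k w' q ((EtCoh.pull e).obj F) := by
    apply ((EtCoh.pullPushAdj (i ≫ f)).homEquiv _ _).injective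
    rw [Adjunction.homEquiv_naturality_right, EtBC.bcQ, Equiv.apply_symm_apply, key, Adjunction.homEquiv_unit,
      Functor.map_comp, ← Category.assoc ((EtCoh.pullPushAdj (i ≫ f)).unit.app _)]
    rw [Adjunction.unit_leftAdjointUniq_hom_app]
    have e1 : EtBC.bcQAdj g f h e w q F = (EtCoh.pullPushAdj f).unit.app _ ≫ (EtCoh.push f).map (EtBC.bcQ g f h e w q F) :=
      (((EtCoh.pullPushAdj f).homEquiv _ _).apply_symm_apply _).symm.trans ((EtCoh.pullPushAdj f).homEquiv_unit _ _ _)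
    have e2 : EtBC.bcQAdj h i j k w' q ((EtCoh.pull e).obj F) = (EtCoh.pullPushAdj i).unit.app _ ≫
        (EtCoh.push i).map (EtBC.bcQ h i j k w' q ((EtCoh.pull e).obj F)) :=
      (((EtCoh.pullPushAdj i).homEquiv _ _).apply_symm_apply _).symm.trans ((EtCoh.pullPushAdj i).homEquiv_unit _ _ _)
    rw [e1, e2]
    simp [adjF, Adjunction.ofNatIsoRight, Adjunction.homEquiv_unit]
    have hn : ∀ {A B : EtCoh.Ab W} (a : A ⟶ B), (EtCoh.push f).map ((EtCoh.push i).map a) ≫ (EtCoh.pushComp f i).hom.app B =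
        (EtCoh.pushComp f i).hom.app A ≫ (EtCoh.push (i ≫ f)).map a := fun a => (EtCoh.pushComp f i).hom.naturality a
    have hu : (EtCoh.push f).map (EtBC.bcQ g f h e w q F) ≫ (EtCoh.push f).map ((EtCoh.pullPushAdj i).unit.app ((EtCoh.Rpush h q).obj ((EtCoh.pull e).obj F))) =
        (EtCoh.push f).map ((EtCoh.pullPushAdj i).unit.app ((EtCoh.pull f).obj ((EtCoh.Rpush g q).obj F))) ≫
          (EtCoh.push f).map ((EtCoh.push i).map ((EtCoh.pull i).map (EtBC.bcQ g f h e w q F))) := by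
      rw [← Functor.map_comp, ← Functor.map_comp]
      exact congrArg _ ((EtCoh.pullPushAdj i).unit.naturality _)
    rw [reassoc_of% hu, hn, reassoc_of% (hn ((EtCoh.pull i).map (EtBC.bcQ g f h e w q F)))]
  haveI := h2
  constructor
  · intro hc
    haveI := hc
    haveI : IsIso (uF.hom.app _ ≫ (EtCoh.pull i).map (EtBC.bcQ g f h e w q F) ≫
        EtBC.bcQ h i j k w' q ((EtCoh.pull e).obj F)) := by
      rw [← hb]; infer_instance
    haveI : IsIso ((EtCoh.pull i).map (EtBC.bcQ g f h e w q F) ≫ EtBC.bcQ h i j k w' q ((EtCoh.pull e).obj F)) :=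
      IsIso.of_isIso_comp_left (uF.hom.app _) _
    exact IsIso.of_isIso_comp_right _ (EtBC.bcQ h i j k w' q ((EtCoh.pull e).obj F))
  · intro hm
    haveI := hm
    have : IsIso (EtBC.bcQ g (i ≫ f) j (k ≫ e) w'' q F ≫ (EtCoh.Rpush j q).map (uE.hom.app F)) := by
      rw [hb]; infer_instance
    exact IsIso.of_isIso_comp_right _ ((EtCoh.Rpush j q).map (uE.hom.app F))

/-- Vertically composed squares have composed base change maps. -/
theorem isIso_bcQ_vcomp (w : e ≫ g = h ≫ f) (w' : k ≫ h = j ≫ i) (w'' : (k ≫ e) ≫ g = j ≫ (i ≫ f))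
    (F : EtCoh.Ab T) (q : ℕ) (h1 : IsIso (EtBC.bcQ g f h e w q F))
    (h2 : IsIso (EtBC.bcQ h i j k w' q ((EtCoh.pull e).obj F))) :
    IsIso (EtBC.bcQ g (i ≫ f) j (k ≫ e) w'' q F) := by
  rw [isIso_bcQ_vcomp_iff f g h e i j k w w' w'' F q h2]
  infer_instance

end Groth.L10.EtBCComp
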